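/-
The classes of subgroups of order three of PΩ⁺₈(3), and of the same in PΩ⁺₈(3):S₃.
-/
import Cfsg.Agent.Lib.Spor.Fi23Plus.Three.Classes
import Cfsg.Agent.Lib.Spor.AlmostSimpleSymThree

set_option autoImplicit false

namespace CfsgLib.Spor.Fi23Plus.Three

open CfsgLib.Spor.TC CfsgLib.Spor.Fi23 CfsgLib.Spor.Fi23Out Subgroup

universe u v

noncomputable section

attribute [local irreducible] phi el xel ael

/-- A full system of representatives of conjugacy classes of subgroups of order three inside a subgroup. -/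
def ThreeClasses {G : Type*} [Group G] (L : Subgroup G) (n : ℕ) : Prop :=
  ∃ Y : Fin n → Subgroup G, (∀ i, Y i ≤ L ∧ Nat.card (Y i) = 3) ∧
    (∀ i j, (∃ g : G, (Y i).map (MulAut.conj g).toMonoidHom = Y j) → i = j) ∧
    ∀ X : Subgroup G, X ≤ L → Nat.card X = 3 → ∃ i, ∃ g : G, X.map (MulAut.conj g).toMonoidHom = Y i

theorem conj_zpowers {H : Type*} [Group H] (g x : H) :
    (zpowers x).map (MulAut.conj g).toMonoidHom = zpowers (g * x * g⁻¹) := by
  rw [MonoidHom.map_zpowers]; rfl

theorem exists_generator {H : Type*} [Group H] {X : Subgroup H} (hX : Nat.card X = 3) :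
    ∃ x ∈ X, zpowers x = X ∧ x ^ 3 = 1 ∧ x ≠ 1 := by
  haveI : Fact (Nat.Prime 3) := ⟨Nat.prime_three⟩
  haveI : Finite X := Nat.finite_of_card_ne_zero (by rw [hX]; norm_num)
  haveI : IsCyclic X := isCyclic_of_prime_card hX
  obtain ⟨⟨x, hx⟩, hgen⟩ := IsCyclic.exists_generator (α := X)
  have e : zpowers x = X := le_antisymm (zpowers_le.2 hx) fun y hy => by
    obtain ⟨n, hn⟩ := mem_zpowers_iff.1 (hgen ⟨y, hy⟩)
    exact mem_zpowers_iff.2 ⟨n, congrArg Subtype.val hn⟩
  have ho : orderOf x = 3 := by rw [← Nat.card_zpowers, e, hX]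
  exact ⟨x, hx, e, by rw [← ho, pow_orderOf_eq_one], fun h => by rw [h, orderOf_one] at ho; norm_num at ho⟩

theorem card_zpowers_three {H : Type*} [Group H] {x : H} (h3 : x ^ 3 = 1) (h1 : x ≠ 1) : Nat.card (zpowers x) = 3 := by
  haveI : Fact (Nat.Prime 3) := ⟨Nat.prime_three⟩
  rw [Nat.card_zpowers, orderOf_eq_prime h3 h1]

/-- A representative in the even part. -/
def repE (i : Fin 13) : even := ⟨repP i, repP_even i.2⟩

theorem thirteen : ThreeClasses (⊤ : Subgroup even) 13 := by
  refine ⟨fun i => zpowers (repE i), fun i => ⟨le_top, card_zpowers_three (Subtype.ext (rep_cube' i.2))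
    fun h => rep_ne i.2 (congrArg Subtype.val h)⟩, fun i j ⟨g, hg⟩ => ?_, fun X _ hX => ?_⟩
  · change (zpowers (repE i)).map _ = zpowers (repE j) at hg
    rw [conj_zpowers] at hg
    have hm : repE j ∈ zpowers (g * repE i * g⁻¹) := hg ▸ mem_zpowers _
    have hcube : (g * repE i * g⁻¹) ^ 3 = 1 := by
      rw [conj_pow, show repE i ^ 3 = 1 from Subtype.ext (rep_cube' i.2), mul_one, mul_inv_cancel]
    have hne : repE j ≠ 1 := fun h => rep_ne j.2 (congrArg Subtype.val h)
    have hmv : Moves (phi (g : PK)) 1 := by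
      have := moves_phi (g : PK)
      rwa [mem_even.1 g.2, show classPerm 1 = 1 from if_pos rfl] at this
    refine Fin.ext (counts_thirteen i i.2 j j.2 fun k => ?_)
    rw [← fixCount_rep i.2, ← fixCount_rep j.2, ← fixCount_conj (x := phi (repP i)) hmv k, Equiv.Perm.one_apply]
    rcases gen_of_zpowers hcube hm hne with e | e
    · rw [show repP j = (g : PK) * repP i * (g : PK)⁻¹ from congrArg Subtype.val e, map_mul, map_mul, map_inv]
    · rw [show repP j = ((g : PK) * repP i * (g : PK)⁻¹)⁻¹ from congrArg Subtype.val e, map_inv, fixCount_inv,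
        map_mul, map_mul, map_inv]
  · obtain ⟨x, -, hx, h3, h1⟩ := exists_generator hX
    obtain ⟨c, hc, i, hi, e⟩ := exists_rep_conj x.2 (congrArg Subtype.val h3) fun h => h1 (Subtype.ext h)
    refine ⟨⟨i, hi⟩, ⟨c, hc⟩, ?_⟩
    rw [← hx, conj_zpowers]
    exact congrArg zpowers (Subtype.ext e)

/-- A representative of the seven. -/
def repB (i : Fin 7) : big := ⟨phi (repP (seven i)), phi_mem _⟩

theorem repB_mem (i : Fin 7) : repB i ∈ theta.ker := by
  rw [theta_ker]
  exact ⟨_, repP_even (seven_lt i), rfl⟩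

theorem seven_classes : ThreeClasses theta.ker 7 := by
  refine ⟨fun i => zpowers (repB i), fun i => ⟨zpowers_le.2 (repB_mem i), card_zpowers_three (Subtype.ext ?_) ?_⟩,
    fun i j ⟨g, hg⟩ => ?_, fun X hXk hX => ?_⟩
  · show phi (repP (seven i)) ^ 3 = 1
    rw [← map_pow, rep_cube' (seven_lt i), map_one]
  · intro h
    have h' : phi (repP (seven i)) = 1 := congrArg Subtype.val h
    exact rep_ne (seven_lt i) (phi_injective (h'.trans (map_one _).symm))
  · change (zpowers (repB i)).map _ = zpowers (repB j) at hg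
    rw [conj_zpowers] at hg
    have hm : repB j ∈ zpowers (g * repB i * g⁻¹) := hg ▸ mem_zpowers _
    have hcube : (g * repB i * g⁻¹) ^ 3 = 1 := by
      rw [conj_pow, show repB i ^ 3 = 1 from Subtype.ext (by
        show phi (repP (seven i)) ^ 3 = 1
        rw [← map_pow, rep_cube' (seven_lt i), map_one]), mul_one, mul_inv_cancel]
    have hne : repB j ≠ 1 := fun h => rep_ne (seven_lt j)
      (phi_injective ((congrArg Subtype.val h : phi (repP (seven j)) = 1).trans (map_one _).symm))
    refine counts_seven i j (theta g) fun k => ?_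
    rw [← fixCount_rep (seven_lt j), ← fixCount_rep (seven_lt i),
      ← fixCount_conj (x := phi (repP (seven i))) (theta_spec g) k]
    rcases gen_of_zpowers hcube hm hne with e | e
    · rw [show phi (repP (seven j)) = (g : Gp) * phi (repP (seven i)) * (g : Gp)⁻¹ from congrArg Subtype.val e]
    · rw [show phi (repP (seven j)) = ((g : Gp) * phi (repP (seven i)) * (g : Gp)⁻¹)⁻¹ from congrArg Subtype.val e,
        fixCount_inv]
  · obtain ⟨x, hxX, hx, h3, h1⟩ := exists_generator hX
    obtain ⟨p, hp, hpx⟩ := (theta_ker ▸ hXk hxX : x ∈ sub'.subgroupOf big)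
    have h3' : p ^ 3 = 1 := phi_injective (by
      rw [map_pow, hpx, map_one]; exact congrArg Subtype.val h3)
    have h1' : p ≠ 1 := fun h => h1 (Subtype.ext (hpx.symm.trans (by rw [h, map_one]; rfl)))
    obtain ⟨c, -, i, hi, e⟩ := exists_rep_conj hp h3' h1'
    obtain ⟨g, hg, j, hj⟩ := exists_seven hi
    refine ⟨j, ⟨g, hg⟩ * ⟨phi c, phi_mem c⟩, ?_⟩
    rw [← hx, conj_zpowers]
    refine congrArg zpowers (Subtype.ext ?_)
    show g * phi c * (x : Gp) * (g * phi c)⁻¹ = phi (repP (seven j))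
    rw [← hj, ← e, map_mul, map_mul, map_inv, hpx]
    group
    rfl

theorem threeClasses_iso {H G : Type*} [Group H] [Group G] (f : H ≃* G) {L : Subgroup H} {L' : Subgroup G}
    (hL : L.map f.toMonoidHom = L') {n : ℕ} (h : ThreeClasses L n) : ThreeClasses L' n := by
  obtain ⟨Y, h1, h2, h3⟩ := h
  have hconj : ∀ (Z : Subgroup H) (g : H), (Z.map f.toMonoidHom).map (MulAut.conj (f g)).toMonoidHom =
      (Z.map (MulAut.conj g).toMonoidHom).map f.toMonoidHom := fun Z g => by
    rw [Subgroup.map_map, Subgroup.map_map]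
    refine congrArg (fun φ => Z.map φ) (MonoidHom.ext fun x => ?_)
    show f g * f x * (f g)⁻¹ = f (g * x * g⁻¹)
    rw [map_mul, map_mul, map_inv]
  refine ⟨fun i => (Y i).map f.toMonoidHom, fun i => ⟨hL ▸ Subgroup.map_mono (h1 i).1,
    (Subgroup.card_map_of_injective f.injective).trans (h1 i).2⟩, fun i j ⟨g, hg⟩ => ?_, fun X hX hc => ?_⟩
  · obtain ⟨g, rfl⟩ := f.surjective g
    rw [hconj] at hg
    exact h2 i j ⟨g, Subgroup.map_injective f.injective hg⟩
  · obtain ⟨i, g, hg⟩ := h3 (X.comap f.toMonoidHom)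
      (fun y hy => by
        have : f y ∈ L' := hX hy
        rw [← hL] at this
        obtain ⟨z, hz, e⟩ := this
        exact f.injective e ▸ hz)
      (by rw [← Subgroup.card_map_of_injective (f := f.toMonoidHom) f.injective,
        Subgroup.map_comap_eq_self_of_surjective f.surjective, hc])
    refine ⟨i, f g, ?_⟩
    rw [← Subgroup.map_comap_eq_self_of_surjective (f := f.toMonoidHom) f.surjective X, hconj, hg]

theorem thirteen_pomega : ThreeClasses (⊤ : Subgroup (Cfsg.POmega (ZMod 3) (Cfsg.quadFormPlus 4 (ZMod 3)))) 13 :=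
  threeClasses_iso evenEquiv (Subgroup.map_top_of_surjective _ evenEquiv.surjective) thirteen

theorem seven_of_shape {G : Type u} [Group G] [Finite G]
    (hF : Nonempty (↥(Cfsg.generalizedFittingSubgroup G) ≃* Cfsg.POmega (ZMod 3) (Cfsg.quadFormPlus 4 (ZMod 3))))
    [(Cfsg.generalizedFittingSubgroup G).Normal]
    (hq : Nonempty (G ⧸ Cfsg.generalizedFittingSubgroup G ≃* Equiv.Perm (Fin 3))) :
    ThreeClasses (Cfsg.generalizedFittingSubgroup G) 7 := by
  obtain ⟨-, hFb, ⟨hnb, hqb⟩, -⟩ := triality_big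
  haveI := hnb
  obtain ⟨f⟩ := CfsgLib.Spor.AlmostSimpleSymThree.pomega_eight_three hFb hF hqb hq
  have h7 : ThreeClasses (Cfsg.generalizedFittingSubgroup big) 7 := by
    rw [gfit_big]
    exact seven_classes
  exact threeClasses_iso f ((Subgroup.map_sup _ _ _).trans (congrArg₂ (· ⊔ ·) (CfsgLib.Coprime.map_layer_equiv f)
    (CfsgLib.Coprime.map_fitting_equiv f))) h7

end

end CfsgLib.Spor.Fi23Plus.Three
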